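import Groth.Agent.SBSepLib.Point
import Groth.Agent.ConsLib.FGSystem
import Groth.Agent.S4795
import Groth.Agent.ConicCurveLib.Generic
import Groth.Agent.SBTautLib.Proper
import Groth.Prelude.Def_W4bk4gw11416BS

/-!
# Brauer–Severi schemes with a rational point
-/

set_option autoImplicit false
set_option backward.isDefEq.respectTransparency false
universe u
open CategoryTheory CategoryTheory.Limits AlgebraicGeometry Opposite

noncomputable section

namespace BSPointLib

variable {k : Type u} [Field k] {X : Scheme.{u}} {f : X ⟶ Spec (CommRingCat.of k)}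

/-- Projective space over an extension is the base change. -/
theorem exists_isPullback_projSpace (n : ℕ) (K : Type u) [Field K] (φ : CommRingCat.of k ⟶ CommRingCat.of K) :
    ∃ j : CohB1.ProjSpace n K ⟶ CohB1.ProjSpace n k,
      IsPullback j (CohB1.ProjSpace.toSpec n K) (CohB1.ProjSpace.toSpec n k) (Spec.map φ) := by
  obtain ⟨qK, hK, -⟩ := PicPnLib.exists_map n K
  obtain ⟨qk, hk, -⟩ := PicPnLib.exists_map n k
  let j := hk.lift qK (CohB1.ProjSpace.toSpec n K ≫ Spec.map φ)
    (by rw [Category.assoc, specULiftZIsTerminal.hom_ext (Spec.map φ ≫ specULiftZIsTerminal.from _)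
      (specULiftZIsTerminal.from _)]; exact hK.w)
  refine ⟨j, IsPullback.of_right ?_ (hk.lift_snd _ _ _) hk⟩
  rw [hk.lift_fst, specULiftZIsTerminal.hom_ext (Spec.map φ ≫ specULiftZIsTerminal.from _)
    (specULiftZIsTerminal.from _)]
  exact hK

/-- A splitting field can be taken finite. -/
theorem exists_finite_splitting [IsProper f] {K : Type u} [Field K] [Algebra k K] {n : ℕ} (e : BrSev.Splitting f K n) :
    ∃ (L : Type u) (_ : Field L) (_ : Algebra k L), FiniteDimensional k L ∧ Nonempty (BrSev.Splitting f L n) := by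
  haveI hPk : IsProper (CohB1.ProjSpace.toSpec n k) := ProjDegLib.toSpec_isProper k n
  let A := ConsLib.fgSys k K (Iso.refl (Spec (CommRingCat.of k)))
  let I : Type u := (ConsLib.FGSub k K)ᵒᵖ
  haveI : IsCofiltered I := inferInstance
  haveI : ∀ (i j : I) (g : i ⟶ j), IsAffineHom (A.D.map g) := fun _ _ g => A.affine_map g
  let i₀ : I := op ⟨⊥, Subalgebra.fg_bot⟩
  haveI : CompactSpace (A.D.obj i₀) := A.compactSpace_obj i₀
  haveI : IsAffine (A.D.obj i₀) := inferInstanceAs (IsAffine (Spec (CommRingCat.of i₀.unop.1)))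
  haveI : IsLocallyNoetherian (Spec (CommRingCat.of k)) := inferInstance
  haveI : LocallyOfFinitePresentation f := inferInstance
  let s := Spec.map (CommRingCat.ofHom (algebraMap k K))
  have hs : A.c.π.app i₀ ≫ A.t i₀ = s := (A.hs i₀).trans (Category.comp_id _)
  let a₀ := pullback.snd f (A.t i₀)
  let b₀ := pullback.snd (CohB1.ProjSpace.toSpec n k) (A.t i₀)
  haveI : IsProper a₀ := MorphismProperty.pullback_snd _ _ ‹IsProper f›
  haveI : IsProper b₀ := MorphismProperty.pullback_snd _ _ hPk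
  haveI : LocallyOfFinitePresentation a₀ := MorphismProperty.pullback_snd _ _ inferInstance
  haveI : LocallyOfFinitePresentation b₀ := MorphismProperty.pullback_snd _ _ inferInstance
  let qX : BrSev.bc f K ⟶ pullback f (A.t i₀) :=
    pullback.lift (pullback.fst f s) (BrSev.bcTo f K ≫ A.c.π.app i₀)
      (by rw [Category.assoc, hs]; exact pullback.condition)
  have hX : IsPullback qX (BrSev.bcTo f K) a₀ (A.c.π.app i₀) :=
    IsPullback.of_right (by rw [pullback.lift_fst, hs]; exact IsPullback.of_hasPullback f s)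
      (pullback.lift_snd _ _ _) (IsPullback.of_hasPullback f (A.t i₀))
  obtain ⟨jP, hjP⟩ := exists_isPullback_projSpace n K (CommRingCat.ofHom (algebraMap k K))
  let qY : CohB1.ProjSpace n K ⟶ pullback (CohB1.ProjSpace.toSpec n k) (A.t i₀) :=
    pullback.lift jP (CohB1.ProjSpace.toSpec n K ≫ A.c.π.app i₀)
      (by rw [Category.assoc, hs]; exact hjP.w)
  have hY : IsPullback qY (CohB1.ProjSpace.toSpec n K) b₀ (A.c.π.app i₀) :=
    IsPullback.of_right (by rw [pullback.lift_fst, hs]; exact hjP)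
      (pullback.lift_snd _ _ _) (IsPullback.of_hasPullback _ (A.t i₀))
  obtain ⟨j, φ, Xj, Yj, aj, bj, pX, pY, hXj, hYj, ej, hej⟩ :=
    (Groth.Agent.S4795.result A.D A.c A.hc i₀ a₀ b₀ (BrSev.bcTo f K) (CohB1.ProjSpace.toSpec n K) qX qY hX hY).1
      ⟨e.iso, e.comm⟩
  haveI : Nontrivial j.unop.1 := inferInstance
  haveI : Algebra.FiniteType k j.unop.1 := ⟨(Subalgebra.fg_top _).mpr j.unop.2⟩
  obtain ⟨m, hm⟩ := Ideal.exists_maximal j.unop.1
  let L : Type u := j.unop.1 ⧸ m
  letI : Field L := Ideal.Quotient.field m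
  haveI : Algebra.FiniteType k L := Algebra.FiniteType.of_surjective (Ideal.Quotient.mkₐ k m) Ideal.Quotient.mk_surjective
  haveI : FiniteDimensional k L := finite_of_finite_type_of_isJacobsonRing k L
  let l : Spec (CommRingCat.of L) ⟶ A.D.obj j := Spec.map (CommRingCat.ofHom (Ideal.Quotient.mk m))
  have hl : l ≫ A.D.map φ ≫ A.t i₀ = Spec.map (CommRingCat.ofHom (algebraMap k L)) := by
    rw [A.w φ]
    exact ((congrArg (l ≫ ·) (Category.comp_id _)).trans (Spec.map_comp _ _).symm).trans (congrArg Spec.map rfl)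
  have hXL := (IsPullback.of_hasPullback aj l).paste_horiz (hXj.paste_horiz (IsPullback.of_hasPullback f (A.t i₀)))
  rw [hl] at hXL
  have hYL := (IsPullback.of_hasPullback bj l).paste_horiz
    (hYj.paste_horiz (IsPullback.of_hasPullback (CohB1.ProjSpace.toSpec n k) (A.t i₀)))
  rw [hl] at hYL
  obtain ⟨jL, hjL⟩ := exists_isPullback_projSpace n L (CommRingCat.ofHom (algebraMap k L))
  let m' : pullback aj l ⟶ pullback bj l := pullback.map aj l bj l ej.hom (𝟙 _) (𝟙 _) (by simp [hej]) (by simp)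
  haveI : IsIso m' := inferInstance
  refine ⟨L, inferInstance, inferInstance, inferInstance, ⟨⟨hXL.isoPullback.symm ≪≫ asIso m' ≪≫ hYL.isoPullback ≪≫ hjL.isoPullback.symm, ?_⟩⟩⟩
  simp only [Iso.trans_hom, Iso.symm_hom, asIso_hom, Category.assoc, IsPullback.isoPullback_inv_snd,
    IsPullback.isoPullback_hom_snd]
  rw [pullback.lift_snd, Category.comp_id, IsPullback.isoPullback_inv_snd]

theorem main (p : X ⟶ Spec (CommRingCat.of k)) (hX : W4bk4gw11416.IsBrauerSeveri p)
    (s : Spec (CommRingCat.of k) ⟶ X) (hs : s ≫ p = 𝟙 (Spec (CommRingCat.of k))) :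
    ∃ n : ℕ, W4bk4gw11416.IsProjSpaceOver p n := by
  obtain ⟨K, _, _, n, e, he⟩ := hX
  let e' : BrSev.Splitting p K n := ⟨e, he⟩
  haveI := SBTaut.isProper_of_splitting e'
  obtain ⟨L, _, _, _, ⟨eL⟩⟩ := exists_finite_splitting e'
  obtain ⟨S⟩ := SBSep.split_of_point eL s hs
  have h1 : Spec.map (CommRingCat.ofHom (algebraMap k k)) = 𝟙 (Spec (CommRingCat.of k)) := Spec.map_id (CommRingCat.of k)
  haveI : IsIso (Spec.map (CommRingCat.ofHom (algebraMap k k))) := by rw [h1]; infer_instance
  haveI : IsIso (BrSev.proj p k) :=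
    inferInstanceAs (IsIso (pullback.fst p (Spec.map (CommRingCat.ofHom (algebraMap k k)))))
  refine ⟨n, (asIso (BrSev.proj p k)).symm ≪≫ S.iso, ?_⟩
  rw [Iso.trans_hom, Category.assoc, S.comm, Iso.symm_hom, asIso_inv, IsIso.inv_comp_eq]
  show pullback.snd p _ = pullback.fst p _ ≫ p
  rw [pullback.condition, h1, Category.comp_id]

end BSPointLib
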